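import Cfsg.Agent.H788.RatB.Rat_m3
import Cfsg.Agent.H314.LyOrb.Deg
import Cfsg.Agent.H204.Ore.LyFive_m3
import Cfsg.Agent.Prune
set_option linter.all false
prune_inst 0x7f00000000000000000000000000000000000000000000000000000000000000000000000000000000000000000000000000000000000000000000000000000000000000000000000000000000000000003fffffffffffffffffffffffffffbeffbdffffffff
open scoped Cfsg.Agent.FastGrp

/-!
# S4891, the Lyons group (helper788, task 4642)

* `witR_three` : `WitR 3 S`, `witR_five` : `WitR 5 S`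
-/

set_option autoImplicit false

namespace Cfsg.Agent.H788.RatB.LyRow

open Cfsg Subgroup Cfsg.Agent.Blocks Cfsg.Agent.H145.BR Cfsg.Agent.Characters.Core
  Cfsg.Agent.H493.RatB Cfsg.Agent.H788.RatB
open Cfsg.Agent.Ly Cfsg.Agent.H593 Cfsg.Agent.Ly.CoverData Cfsg.Agent.Ly.Cent Cfsg.Agent.Ly.Setup Cfsg.Agent.H314.OrbDeg Cfsg.Agent.H314.OrbCount
  Cfsg.Agent.H314.LyOrb

universe u

/-- the permutation character on the cosets of `G₂(5)` -/
theorem exists_chi : ∃ χ : Fin 5 → IrrCharacter Spor.Ly, Function.Injective χ ∧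
    (∀ g, permC Spor.Ly (Spor.Ly ⧸ psi.range) g = ∑ i, (χ i : Spor.Ly → ℂ) g) ∧
    (∀ l, charDegree (χ l : Spor.Ly → ℂ) = deg l) ∧ ∀ l, RatV (χ l : Spor.Ly → ℂ) := by
  classical
  have := Fintype.ofFinite Spor.Ly
  have := Fintype.ofFinite (Spor.Ly ⧸ psi.range)
  obtain ⟨χ, h1, hs, h2⟩ := exists_degrees_of_eigen sub_ly 1 0
    (by show (QuotientGroup.mk (Setup.w 0) : Spor.Ly ⧸ psi.range) = _; rw [w_zero]) M
    (fun i j => by rw [← cnt_M i j, ← cnt_symm sub_ly 1 i j]) θ
    (by intro i j h; fin_cases i <;> fin_cases j <;> first | rfl | (norm_num [θ] at h)) V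
    (by intro l; fin_cases l <;> rfl)
    (by decide +kernel)
  have hdeg : ∀ l, charDegree (χ l : Spor.Ly → ℂ) = deg l := by
    intro l
    have h3 := h2 l
    have hi : Nat.card (Spor.Ly ⧸ psi.range) = 8835156 := by rw [← Subgroup.index_eq_card, index_range]
    rw [hi, Fin.sum_univ_five] at h3
    have h4 : (charDegree (χ l : Spor.Ly → ℂ) : ℚ) = deg l := by
      have h5 : ∀ l : Fin 5, (dd 0 : ℚ) * V l 0 ^ 2 + dd 1 * V l 1 ^ 2 + dd 2 * V l 2 ^ 2 + dd 3 * V l 3 ^ 2 +
          dd 4 * V l 4 ^ 2 = 8835156 / deg l := by decide +kernel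
      have h6 : (deg l : ℚ) ≠ 0 := by fin_cases l <;> norm_num [deg]
      rw [h5 l] at h3
      field_simp at h3
      push_cast at h3
      linarith
    exact_mod_cast h4
  refine ⟨χ, h1, hs, hdeg, ?_⟩
  refine ratV_of_sum (θ := permC Spor.Ly (Spor.Ly ⧸ psi.range)) (fun g => ⟨Nat.card (MulAction.fixedBy _ g), by
    show (_ : ℂ) = _
    push_cast
    rfl⟩) χ hs h1 fun i j hij => ?_
  rw [Blocks.Basic.irr_one_eq_charDegree (χ i).2, Blocks.Basic.irr_one_eq_charDegree (χ j).2, hdeg, hdeg] at hij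
  have h3 : deg i = deg j := by exact_mod_cast hij
  revert h3
  fin_cases i <;> fin_cases j <;> decide

theorem witR_three_ly : WitR 3 Spor.Ly := by
  have : Finite Spor.Ly := Setup.finite_ly
  obtain ⟨χ, -, hs, -, hr⟩ := exists_chi
  have h3 : Fact (Nat.Prime 3) := ⟨by norm_num⟩
  refine witR_of_deg (X := Spor.Ly ⧸ psi.range) ?_ χ hs hr
  have hi : Nat.card (Spor.Ly ⧸ psi.range) = 8835156 := by rw [← Subgroup.index_eq_card, index_range]
  rw [hi]
  norm_num

theorem witR_five_ly : WitR 5 Spor.Ly := by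
  have : Finite Spor.Ly := Setup.finite_ly
  obtain ⟨χ, -, -, hd, hr⟩ := exists_chi
  intro M hM
  have h1 : charDegree (χ 1 : Spor.Ly → ℂ) = 45694 := hd 1
  refine ⟨χ 1, ?_, ?_, ?_, hr 1⟩
  · by_contra hcon
    have h2 := Cfsg.Agent.H799.PB.nb_five_ly M hM (χ 1) hcon
    rw [h1] at h2
    revert h2
    norm_num
  · intro h2
    have h3 := Blocks.Basic.irr_one_eq_charDegree (χ 1).2
    rw [h1, h2] at h3
    norm_num at h3
  · rw [h1]
    norm_num

variable {S : Type u} [Group S]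

theorem finite_of_iso (h : Spor.IsoLy S) : Finite S := by
  obtain ⟨e⟩ := h
  have : Finite Spor.Ly := Setup.finite_ly
  exact Finite.of_equiv _ e.symm.toEquiv

/-- **`p = 3`** -/
theorem witR_three (h : Spor.IsoLy S) : WitR 3 S := by
  have := finite_of_iso h
  obtain ⟨e⟩ := h
  exact WitR.congr e witR_three_ly

/-- **`p = 5`** -/
theorem witR_five (h : Spor.IsoLy S) : WitR 5 S := by
  have := finite_of_iso h
  obtain ⟨e⟩ := h
  exact WitR.congr e witR_five_ly

end Cfsg.Agent.H788.RatB.LyRow
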